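import Mathlib
import Cfsg.Agent.Lib.Helper6.SUG.Q2Defs

/-!
# Project SUG (S2412), block [Q2]: package [Q2-PAIRS]

All pair elements at cyclically adjacent positions are in `K`: conjugating the pair element at
`(j, j + 1)` by the cyclic shift gives the pair element at `(j + 1, j + 2)`; then [Q2-ROT].
-/

set_option autoImplicit false

namespace Cfsg.Agent.Lib.Helper15.SUG

open Matrix Cfsg.Agent.Lib.Helper60.SUG Cfsg.Agent.Lib.Helper6.SUG

universe u

/-- Conjugating a diagonal element by the cyclic shift shifts its entries. -/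
theorem isDiag_conj_cyc {F : Type u} [Field F] {n : ℕ} (c p : ↥(Cfsg.SU n F 2))
    (z z' : Fin n → F) (hc : IsCyc c) (hp : Cfsg.Agent.Lib.Helper6.SUG.IsDiag p z)
    (hz : ∀ i : Fin n, z' (finRotate n i) = z i) : Cfsg.Agent.Lib.Helper6.SUG.IsDiag (c * p * c⁻¹) z' := by
  classical
  unfold Cfsg.Agent.Lib.Helper6.SUG.IsDiag at hp ⊢
  have hmul : mat (c * p * c⁻¹) = mat c * mat p * mat c⁻¹ := rfl
  have hinv : mat c * mat c⁻¹ = 1 := by
    have h1 : mat (c * c⁻¹) = mat c * mat c⁻¹ := rfl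
    rw [← h1, mul_inv_cancel]
    rfl
  have key : ∀ v : Fin n → F, mat (c * p * c⁻¹) *ᵥ v = Matrix.diagonal z' *ᵥ v := by
    intro v
    funext k
    obtain ⟨i₀, rfl⟩ : ∃ i₀, finRotate n i₀ = k := ⟨(finRotate n).symm k, (finRotate n).apply_symm_apply k⟩
    have hu : mat c *ᵥ (mat c⁻¹ *ᵥ v) = v := by
      rw [Matrix.mulVec_mulVec, hinv, Matrix.one_mulVec]
    have hu' : (mat c⁻¹ *ᵥ v) i₀ = v (finRotate n i₀) := by
      have h2 := hc (mat c⁻¹ *ᵥ v) i₀
      rw [hu] at h2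
      exact h2.symm
    rw [hmul, ← Matrix.mulVec_mulVec, ← Matrix.mulVec_mulVec, hc, hp, Matrix.mulVec_diagonal,
      Matrix.mulVec_diagonal, hu', hz]
  exact Matrix.ext_of_mulVec_single fun i => key (Pi.single i 1)

/-- [Q2-PAIRS] -/
theorem pkgQ2Pairs : PkgQ2Pairs.{u} := by
  intro hRot F _ _ _ n K ω hc hp j
  classical
  obtain ⟨c, hcK, hc⟩ := hc
  obtain ⟨i, p, hpK, hp⟩ := hp
  refine hRot n {j | ∃ p ∈ K, Cfsg.Agent.Lib.Helper6.SUG.IsDiag p (pairVec ω j (finRotate n j))} ?_ ⟨i, p, hpK, hp⟩ j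
  rintro j ⟨p, hpK, hp⟩
  refine ⟨c * p * c⁻¹, K.mul_mem (K.mul_mem hcK hpK) (K.inv_mem hcK), ?_⟩
  apply isDiag_conj_cyc c p _ _ hc hp
  intro k
  simp [pairVec]

end Cfsg.Agent.Lib.Helper15.SUG
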